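import Groth.Prelude.Def_DEt2
import Mathlib.AlgebraicGeometry.Morphisms.Immersion
import Mathlib.AlgebraicGeometry.Morphisms.Proper

/-!
Compactifications from an immersion into a proper scheme: take the scheme-theoretic image.
-/

set_option autoImplicit false
universe u
open CategoryTheory CategoryTheory.Limits AlgebraicGeometry

namespace Groth.Misc3Cpct

variable {X Y P : Scheme.{u}} [CompactSpace ↥X] [QuasiSeparatedSpace ↥Y] {f : X ⟶ Y}

theorem exists_of_immersion (g : X ⟶ P) (p : P ⟶ Y) [IsImmersion g] [IsProper p] (hgp : g ≫ p = f) :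
    ∃ (c : DEt.Compactification f) (i : c.Xbar ⟶ P),
      IsClosedImmersion i ∧ c.j ≫ i = g ∧ i ≫ p = c.fbar := by
  haveI : QuasiCompact f := inferInstance
  haveI : QuasiCompact (g ≫ p) := hgp ▸ inferInstance
  haveI : QuasiCompact g := QuasiCompact.of_comp g p
  exact ⟨⟨g.image, g.toImage, g.imageι ≫ p, inferInstance, inferInstance,
    by rw [Scheme.Hom.toImage_imageι_assoc, hgp]⟩, g.imageι, inferInstance,
    g.toImage_imageι, rfl⟩

end Groth.Misc3Cpct
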